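import Mathlib
import Cfsg.Prelude.Def_Local
import Cfsg.Agent.Lib.Helper9.Generation
import Cfsg.Agent.S0044
import Cfsg.Agent.Lib.Helper1.Fitting

set_option autoImplicit false

/-! Thompson's dihedral lemma: an elementary abelian 2-group acting faithfully on a solvable group
of odd order. -/

namespace Cfsg.Agent.Lib.Helper9

open Cfsg.Agent.Lib.Helper4

variable {G : Type*} [Group G]

/-- `x` is a common eigenvector of `A` -/
def Eig (A : Subgroup G) (x : G) : Prop := ∀ b ∈ A, b * x * b⁻¹ = x ∨ b * x * b⁻¹ = x⁻¹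

theorem le_normalizer_of_conj_mem' {A Y : Subgroup G} (h : ∀ b ∈ A, ∀ w ∈ Y, b * w * b⁻¹ ∈ Y) :
    A ≤ Subgroup.normalizer (Y : Set G) := by
  intro g hg
  rw [Subgroup.mem_normalizer_iff]
  intro n
  constructor
  · exact h g hg n
  · intro h'
    have := h g⁻¹ (inv_mem hg) _ h'
    have e : g⁻¹ * (g * n * g⁻¹) * g⁻¹⁻¹ = n := by group
    rwa [e] at this

theorem conj_mem_of_le_normalizer' {A Y : Subgroup G} (h : A ≤ Subgroup.normalizer (Y : Set G))
    {b w : G} (hb : b ∈ A) (hw : w ∈ Y) : b * w * b⁻¹ ∈ Y :=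
  (Subgroup.mem_normalizer_iff.mp (h hb) w).mp hw

theorem eq_one_of_eq_inv_odd [Finite G] {X : Subgroup G} (hX : Odd (Nat.card X)) {x : G} (hx : x ∈ X)
    (h : x = x⁻¹) : x = 1 := by
  have h2 : x ^ 2 = 1 := by
    rw [pow_two]
    nth_rewrite 1 [h]
    exact inv_mul_cancel x
  have h3 : orderOf x ∣ 2 := orderOf_dvd_of_pow_eq_one h2
  have h4 : orderOf x ∣ Nat.card X := by
    have := orderOf_dvd_natCard (⟨x, hx⟩ : X)
    rwa [Subgroup.orderOf_mk] at this
  have h5 : orderOf x ∣ Nat.gcd 2 (Nat.card X) := Nat.dvd_gcd h3 h4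
  have h6 : Nat.gcd 2 (Nat.card X) = 1 := Nat.coprime_two_left.mpr hX
  rw [h6, Nat.dvd_one, orderOf_eq_one_iff] at h5
  exact h5

theorem elemAb2_mul_self {A : Subgroup G} (hA : Cfsg.IsElementaryAbelian 2 A) {b : G} (hb : b ∈ A) :
    b * b = 1 := by
  have := hA.2 b hb
  rwa [pow_two] at this

theorem elemAb2_inv {A : Subgroup G} (hA : Cfsg.IsElementaryAbelian 2 A) {b : G} (hb : b ∈ A) :
    b⁻¹ = b := inv_eq_of_mul_eq_one_left (elemAb2_mul_self hA hb)

/-- the commutator of `n` with an involution `b` is inverted by `b` -/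
theorem conj_comm_inv {b : G} (hb : b * b = 1) (n : G) :
    b * (n⁻¹ * (b * n * b⁻¹)) * b⁻¹ = (n⁻¹ * (b * n * b⁻¹))⁻¹ := by
  have hbi : b⁻¹ = b := inv_eq_of_mul_eq_one_left hb
  calc b * (n⁻¹ * (b * n * b⁻¹)) * b⁻¹ = b * n⁻¹ * b * n * (b * b)⁻¹ := by group
    _ = b * n⁻¹ * b * n := by rw [hb, inv_one, mul_one]
    _ = b * n⁻¹ * b⁻¹ * n := by rw [hbi]
    _ = _ := by group

/-- centralizer growth -/
theorem centralizes_of_normalizes [Finite G] {X D : Subgroup G} (hX : Odd (Nat.card X)) {b : G}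
    (hb : b * b = 1) (hbX : ∀ w ∈ X, b * w * b⁻¹ ∈ X) (hbD : ∀ z ∈ D, b * z * b⁻¹ = z)
    (hC : ∀ c ∈ X, (∀ z ∈ D, c * z = z * c) → b * c * b⁻¹ = c) {n : G} (hn : n ∈ X)
    (hnD : ∀ z ∈ D, n * z * n⁻¹ ∈ D) : b * n * b⁻¹ = n := by
  have hcX : n⁻¹ * (b * n * b⁻¹) ∈ X := mul_mem (inv_mem hn) (hbX n hn)
  have h1 : ∀ z ∈ D, (n⁻¹ * (b * n * b⁻¹)) * z = z * (n⁻¹ * (b * n * b⁻¹)) := by
    intro z hz
    have e1 := hbD _ (hnD z hz)
    have e2 := hbD z hz
    have e3 : (b * n * b⁻¹) * z * (b * n * b⁻¹)⁻¹ = n * z * n⁻¹ := by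
      calc (b * n * b⁻¹) * z * (b * n * b⁻¹)⁻¹ = (b * n * b⁻¹) * (b * z * b⁻¹) * (b * n * b⁻¹)⁻¹ := by
            rw [e2]
        _ = b * (n * z * n⁻¹) * b⁻¹ := by group
        _ = _ := e1
    calc (n⁻¹ * (b * n * b⁻¹)) * z = n⁻¹ * ((b * n * b⁻¹) * z * (b * n * b⁻¹)⁻¹) * (b * n * b⁻¹) := by
          group
      _ = n⁻¹ * (n * z * n⁻¹) * (b * n * b⁻¹) := by rw [e3]
      _ = _ := by group
  have h2 := hC _ hcX h1
  rw [conj_comm_inv hb] at h2
  have h3 := eq_one_of_eq_inv_odd hX hcX h2.symm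
  calc b * n * b⁻¹ = n * (n⁻¹ * (b * n * b⁻¹)) := by group
    _ = n := by rw [h3, mul_one]

theorem mem_centralizer_of_conj {X : Subgroup G} {b : G} (h : ∀ w ∈ X, b * w * b⁻¹ = w) :
    b ∈ Subgroup.centralizer (X : Set G) := by
  rw [Subgroup.mem_centralizer_iff]
  intro w hw
  have := h w hw
  calc w * b = (b * w * b⁻¹) * b := by rw [this]
    _ = b * w := by group

theorem conj_of_mem_centralizer {X : Subgroup G} {b : G} (h : b ∈ Subgroup.centralizer (X : Set G))
    {w : G} (hw : w ∈ X) : b * w * b⁻¹ = w := by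
  rw [Subgroup.mem_centralizer_iff] at h
  rw [← h w hw, mul_inv_cancel_right]

/-- `A` is faithful on the Fitting subgroup -/
theorem faithful_fitting [Finite G] (A L : Subgroup G) (hA : Cfsg.IsElementaryAbelian 2 A)
    (hLs : Group.IsSolvable ↥L) (hLodd : Odd (Nat.card ↥L))
    (hAL : A ≤ Subgroup.normalizer (L : Set G))
    (hf : A ⊓ Subgroup.centralizer (L : Set G) = ⊥) :
    ∃ F : Subgroup G, F ≤ L ∧ Group.IsNilpotent F ∧ A ≤ Subgroup.normalizer (F : Set G) ∧
      A ⊓ Subgroup.centralizer (F : Set G) = ⊥ := by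
  obtain ⟨F, hF⟩ : ∃ F, F = (Cfsg.fittingSubgroup ↥L).map L.subtype := ⟨_, rfl⟩
  have hFL : F ≤ L := hF ▸ Subgroup.map_subtype_le _
  have hFnil : Group.IsNilpotent F := by
    rw [hF]
    have := Cfsg.Agent.Lib.Helper1.fitting_nilpotent (G := ↥L)
    exact Group.nilpotent_of_mulEquiv
      (Subgroup.equivMapOfInjective (Cfsg.fittingSubgroup ↥L) L.subtype L.subtype_injective)
  have hFn : (Cfsg.fittingSubgroup ↥L).Normal := Cfsg.Agent.Lib.Helper1.fitting_normal
  have hLF : ∀ n ∈ L, ∀ z ∈ F, n * z * n⁻¹ ∈ F := by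
    intro n hn z hz
    rw [hF] at hz ⊢
    obtain ⟨z', hz', rfl⟩ := hz
    exact ⟨⟨n, hn⟩ * z' * ⟨n, hn⟩⁻¹, hFn.conj_mem z' hz' _, rfl⟩
  have hmax : ∀ N : Subgroup G, N ≤ L → L ≤ Subgroup.normalizer (N : Set G) → Group.IsNilpotent N →
      N ≤ F := by
    intro N hNL hLN hNnil
    have h1 : (N.subgroupOf L).Normal := Subgroup.normal_subgroupOf_of_le_normalizer hLN
    have h2 : Group.IsNilpotent (N.subgroupOf L) :=
      Group.nilpotent_of_mulEquiv (Subgroup.subgroupOfEquivOfLe hNL).symm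
    have h3 : N.subgroupOf L ≤ Cfsg.fittingSubgroup ↥L := le_sSup ⟨h1, h2⟩
    intro x hx
    rw [hF]
    exact ⟨⟨x, hNL hx⟩, h3 (Subgroup.mem_subgroupOf.mpr hx), rfl⟩
  have hAF : A ≤ Subgroup.normalizer (F : Set G) := by
    apply le_normalizer_of_conj_mem'
    intro b hb w hw
    have h1 : F.map (MulAut.conj b).toMonoidHom ≤ F := by
      apply hmax
      · rintro _ ⟨z, hz, rfl⟩
        exact conj_mem_of_le_normalizer' hAL hb (hFL hz)
      · apply le_normalizer_of_conj_mem'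
        rintro n hn _ ⟨z, hz, rfl⟩
        have h2 : b⁻¹ * n * b⁻¹⁻¹ ∈ L := conj_mem_of_le_normalizer' hAL (inv_mem hb) hn
        refine ⟨(b⁻¹ * n * b⁻¹⁻¹) * z * (b⁻¹ * n * b⁻¹⁻¹)⁻¹, hLF _ h2 z hz, ?_⟩
        show b * ((b⁻¹ * n * b⁻¹⁻¹) * z * (b⁻¹ * n * b⁻¹⁻¹)⁻¹) * b⁻¹ = n * (b * z * b⁻¹) * n⁻¹
        group
      · exact Group.nilpotent_of_mulEquiv
          (Subgroup.equivMapOfInjective F (MulAut.conj b).toMonoidHom (MulAut.conj b).injective)
    exact h1 ⟨w, hw, rfl⟩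
  refine ⟨F, hFL, hFnil, hAF, ?_⟩
  rw [eq_bot_iff, ← hf]
  intro b hb
  obtain ⟨hbA, hbF⟩ := Subgroup.mem_inf.mp hb
  refine Subgroup.mem_inf.mpr ⟨hbA, ?_⟩
  apply mem_centralizer_of_conj
  intro n hn
  refine centralizes_of_normalizes (D := F) hLodd (elemAb2_mul_self hA hbA)
    (fun w hw => conj_mem_of_le_normalizer' hAL hbA hw) (fun z hz => conj_of_mem_centralizer hbF hz)
    ?_ hn (hLF n hn)
  intro c hc hcF
  have h1 : (⟨c, hc⟩ : L) ∈ Subgroup.centralizer (Cfsg.fittingSubgroup ↥L : Set ↥L) := by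
    rw [Subgroup.mem_centralizer_iff]
    intro z hz
    apply Subtype.ext
    have : (z : G) ∈ F := by rw [hF]; exact ⟨z, hz, rfl⟩
    exact (hcF _ this).symm
  have h2 := Cfsg.Agent.S0044.result h1
  have h3 : c ∈ F := by rw [hF]; exact ⟨_, h2, rfl⟩
  exact conj_of_mem_centralizer hbF h3

theorem conj_eq_iff_comm {b w : G} : b * w * b⁻¹ = w ↔ b * w = w * b := by
  constructor
  · intro h
    calc b * w = (b * w * b⁻¹) * b := by group
      _ = w * b := by rw [h]
  · intro h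
    rw [h, mul_inv_cancel_right]

/-- a minimal faithful invariant subgroup of a nilpotent group of odd order is abelian -/
theorem exists_abelian [Finite G] (A L : Subgroup G) (hA : Cfsg.IsElementaryAbelian 2 A)
    (hLnil : Group.IsNilpotent ↥L) (hLodd : Odd (Nat.card ↥L))
    (hAL : A ≤ Subgroup.normalizer (L : Set G))
    (hf : A ⊓ Subgroup.centralizer (L : Set G) = ⊥) :
    ∃ X : Subgroup G, X ≤ L ∧ A ≤ Subgroup.normalizer (X : Set G) ∧
      A ⊓ Subgroup.centralizer (X : Set G) = ⊥ ∧ ∀ u ∈ X, ∀ v ∈ X, u * v = v * u := by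
  have : Fact (Nat.Prime 2) := ⟨Nat.prime_two⟩
  obtain ⟨X, hX⟩ := exists_minimal_of_wellFoundedLT
    (fun X : Subgroup G => X ≤ L ∧ A ≤ Subgroup.normalizer (X : Set G) ∧
      A ⊓ Subgroup.centralizer (X : Set G) = ⊥) ⟨L, le_rfl, hAL, hf⟩
  obtain ⟨⟨hXL, hAX, hfX⟩, hmin⟩ := hX
  have hXodd : Odd (Nat.card X) := Odd.of_dvd_nat hLodd (Subgroup.card_dvd_of_le hXL)
  have hXnil : Group.IsNilpotent X :=
    Group.nilpotent_of_mulEquiv (Subgroup.subgroupOfEquivOfLe hXL)
  have key : ∀ a ∈ A, a ≠ 1 → ¬ (∀ z ∈ X ⊓ Subgroup.centralizer (X : Set G), a * z * a⁻¹ = z) := by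
    intro a haA ha1 hz
    have haX : a ∉ Subgroup.centralizer (X : Set G) := fun h => ha1 (by
      have : a ∈ A ⊓ Subgroup.centralizer (X : Set G) := Subgroup.mem_inf.mpr ⟨haA, h⟩
      rwa [hfX, Subgroup.mem_bot] at this)
    have h2A : 2 ≤ Nat.card A := by
      have : A ≠ ⊥ := fun h => ha1 (by rwa [h, Subgroup.mem_bot] at haA)
      exact (Subgroup.one_lt_card_iff_ne_bot A).mpr this
    have hX2 : ¬ 2 ∣ Nat.card X := fun h => (Nat.not_even_iff_odd.mpr hXodd) (even_iff_two_dvd.mpr h)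
    have hgen := gen_hyperplanes 2 A X hA h2A hX2 hAX
    have hex : ∃ B : {B : Subgroup G // B ≤ A ∧ B.relIndex A = 2},
        ∃ u ∈ X ⊓ Subgroup.centralizer ((B : Subgroup G) : Set G), a * u * a⁻¹ ≠ u := by
      by_contra hcon
      push Not at hcon
      apply haX
      have h1 : X ≤ Subgroup.centralizer ({a} : Set G) := by
        rw [hgen]
        apply iSup_le
        intro B u hu
        rw [Subgroup.mem_centralizer_singleton_iff]
        exact (conj_eq_iff_comm.mp (hcon B u hu)).symm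
      apply mem_centralizer_of_conj
      intro w hw
      have := h1 hw
      rw [Subgroup.mem_centralizer_singleton_iff] at this
      exact conj_eq_iff_comm.mpr this.symm
    obtain ⟨⟨B, hBA, hBidx⟩, u, hu, hau⟩ := hex
    obtain ⟨huX, huB⟩ := Subgroup.mem_inf.mp hu
    have huB' : ∀ b ∈ B, b * u * b⁻¹ = u := fun b hb => by
      have huB2 : u ∈ Subgroup.centralizer (B : Set G) := huB
      rw [Subgroup.mem_centralizer_iff] at huB2
      exact conj_eq_iff_comm.mpr (huB2 b hb)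
    obtain ⟨y, hy⟩ : ∃ y, y = u⁻¹ * (a * u * a⁻¹) := ⟨_, rfl⟩
    have hyX : y ∈ X := hy ▸ mul_mem (inv_mem huX) (conj_mem_of_le_normalizer' hAX haA huX)
    have hy1 : y ≠ 1 := by
      intro h
      apply hau
      rw [hy] at h
      calc a * u * a⁻¹ = u * (u⁻¹ * (a * u * a⁻¹)) := by group
        _ = u := by rw [h, mul_one]
    have hay : a * y * a⁻¹ = y⁻¹ := by
      rw [hy]; exact conj_comm_inv (elemAb2_mul_self hA haA) u
    have hBy : ∀ b ∈ B, b * y * b⁻¹ = y := by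
      intro b hb
      have h1 := huB' b hb
      have h2 : b * a = a * b := elemAb_comm hA (hBA hb) haA
      rw [hy]
      calc b * (u⁻¹ * (a * u * a⁻¹)) * b⁻¹ = (b * u * b⁻¹)⁻¹ * ((b * a) * u * (b * a)⁻¹) := by group
        _ = (b * u * b⁻¹)⁻¹ * (a * (b * u * b⁻¹) * a⁻¹) := by rw [h2]; group
        _ = _ := by rw [h1]
    have haB : a ∉ B := fun h => hau (huB' a h)
    have hEig : Eig A y := by
      intro b hb
      by_cases hbB : b ∈ B
      · exact Or.inl (hBy b hbB)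
      · right
        have hidx : (B.subgroupOf A).index = 2 := hBidx
        have h1 := Subgroup.mul_mem_iff_of_index_two hidx (a := ⟨b, hb⟩) (b := ⟨a, haA⟩)
        have hbaB : b * a ∈ B := by
          have : (⟨b, hb⟩ * ⟨a, haA⟩ : A) ∈ B.subgroupOf A := by
            rw [h1, Subgroup.mem_subgroupOf, Subgroup.mem_subgroupOf]
            exact ⟨fun h => absurd h hbB, fun h => absurd h haB⟩
          exact this
        have hay' : a⁻¹ * y * a⁻¹⁻¹ = y⁻¹ := by
          calc a⁻¹ * y * a⁻¹⁻¹ = (a⁻¹ * y⁻¹ * a)⁻¹ := by group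
            _ = (a⁻¹ * (a * y * a⁻¹) * a)⁻¹ := by rw [hay]
            _ = y⁻¹ := by group
        calc b * y * b⁻¹ = (b * a) * (a⁻¹ * y * a⁻¹⁻¹) * (b * a)⁻¹ := by group
          _ = (b * a) * y⁻¹ * (b * a)⁻¹ := by rw [hay']
          _ = ((b * a) * y * (b * a)⁻¹)⁻¹ := by group
          _ = y⁻¹ := by rw [hBy _ hbaB]
    have hX₁ : X ≤ X ⊓ Subgroup.centralizer ({y} : Set G) := by
      apply hmin _ inf_le_left
      refine ⟨inf_le_left.trans hXL, ?_, ?_⟩
      · apply le_normalizer_of_conj_mem'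
        intro b hb w hw
        obtain ⟨hwX, hwy⟩ := Subgroup.mem_inf.mp hw
        rw [Subgroup.mem_centralizer_singleton_iff] at hwy
        refine Subgroup.mem_inf.mpr ⟨conj_mem_of_le_normalizer' hAX hb hwX, ?_⟩
        rw [Subgroup.mem_centralizer_singleton_iff]
        have h1 : w * (b⁻¹ * y * b⁻¹⁻¹) = (b⁻¹ * y * b⁻¹⁻¹) * w := by
          rcases hEig b⁻¹ (inv_mem hb) with h | h
          · rw [h, hwy]
          · rw [h]
            calc w * y⁻¹ = y⁻¹ * (y * w) * y⁻¹ := by group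
              _ = y⁻¹ * (w * y) * y⁻¹ := by rw [hwy]
              _ = _ := by group
        calc b * w * b⁻¹ * y = b * (w * (b⁻¹ * y * b⁻¹⁻¹)) * b⁻¹ := by group
          _ = b * ((b⁻¹ * y * b⁻¹⁻¹) * w) * b⁻¹ := by rw [h1]
          _ = _ := by group
      · rw [eq_bot_iff, ← hfX]
        intro b hb
        obtain ⟨hbA, hbC⟩ := Subgroup.mem_inf.mp hb
        refine Subgroup.mem_inf.mpr ⟨hbA, ?_⟩
        have hby : b * y * b⁻¹ = y := conj_of_mem_centralizer hbC (Subgroup.mem_inf.mpr ⟨hyX, by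
          rw [Subgroup.mem_centralizer_singleton_iff]⟩)
        have hNC := Group.normalizerCondition_of_isNilpotent (G := ↥X)
        rw [normalizerCondition_iff_only_full_group_self_normalizing] at hNC
        have htop := hNC ((X ⊓ Subgroup.centralizer ({b} : Set G)).subgroupOf X) (by
          apply le_antisymm _ Subgroup.le_normalizer
          intro n hn
          rw [Subgroup.mem_subgroupOf]
          refine Subgroup.mem_inf.mpr ⟨n.2, ?_⟩
          rw [Subgroup.mem_centralizer_singleton_iff]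
          symm
          apply conj_eq_iff_comm.mp
          refine centralizes_of_normalizes (D := X ⊓ Subgroup.centralizer ({b} : Set G)) hXodd
            (elemAb2_mul_self hA hbA) (fun w hw => conj_mem_of_le_normalizer' hAX hbA hw) ?_ ?_ n.2 ?_
          · intro z hz
            have := (Subgroup.mem_inf.mp hz).2
            rw [Subgroup.mem_centralizer_singleton_iff] at this
            exact conj_eq_iff_comm.mpr this.symm
          · intro c hc hcD
            apply conj_of_mem_centralizer hbC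
            refine Subgroup.mem_inf.mpr ⟨hc, ?_⟩
            rw [Subgroup.mem_centralizer_singleton_iff]
            apply hcD
            refine Subgroup.mem_inf.mpr ⟨hyX, ?_⟩
            rw [Subgroup.mem_centralizer_singleton_iff]
            exact (conj_eq_iff_comm.mp hby).symm
          · intro z hz
            have h1 := (Subgroup.mem_normalizer_iff.mp hn ⟨z, (Subgroup.mem_inf.mp hz).1⟩).mp
              (Subgroup.mem_subgroupOf.mpr hz)
            exact h1)
        apply mem_centralizer_of_conj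
        intro w hw
        have h1 : (⟨w, hw⟩ : X) ∈ (X ⊓ Subgroup.centralizer ({b} : Set G)).subgroupOf X := by
          rw [htop]; trivial
        have h2 := (Subgroup.mem_inf.mp (Subgroup.mem_subgroupOf.mp h1)).2
        rw [Subgroup.mem_centralizer_singleton_iff] at h2
        exact conj_eq_iff_comm.mpr h2.symm
    have hyZ : y ∈ X ⊓ Subgroup.centralizer (X : Set G) := by
      refine Subgroup.mem_inf.mpr ⟨hyX, ?_⟩
      rw [Subgroup.mem_centralizer_iff]
      intro w hw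
      have := (Subgroup.mem_inf.mp (hX₁ hw)).2
      rw [Subgroup.mem_centralizer_singleton_iff] at this
      exact this
    have h1 := hz y hyZ
    rw [hay] at h1
    exact hy1 (eq_one_of_eq_inv_odd hXodd hyX h1.symm)
  have hXZ : X ≤ X ⊓ Subgroup.centralizer (X : Set G) := by
    apply hmin _ inf_le_left
    refine ⟨inf_le_left.trans hXL, ?_, ?_⟩
    · apply le_normalizer_of_conj_mem'
      intro b hb w hw
      obtain ⟨hwX, hwC⟩ := Subgroup.mem_inf.mp hw
      refine Subgroup.mem_inf.mpr ⟨conj_mem_of_le_normalizer' hAX hb hwX, ?_⟩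
      rw [Subgroup.mem_centralizer_iff] at hwC ⊢
      intro v hv
      have h1 := hwC _ (conj_mem_of_le_normalizer' hAX (inv_mem hb) hv)
      calc v * (b * w * b⁻¹) = b * ((b⁻¹ * v * b⁻¹⁻¹) * w) * b⁻¹ := by group
        _ = b * (w * (b⁻¹ * v * b⁻¹⁻¹)) * b⁻¹ := by rw [h1]
        _ = _ := by group
    · rw [eq_bot_iff]
      intro a ha
      obtain ⟨haA, haC⟩ := Subgroup.mem_inf.mp ha
      rw [Subgroup.mem_bot]
      by_contra ha1
      exact key a haA ha1 (fun z hz => conj_of_mem_centralizer haC hz)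
  refine ⟨X, hXL, hAX, hfX, ?_⟩
  intro u hu v hv
  have := (Subgroup.mem_inf.mp (hXZ hv)).2
  rw [Subgroup.mem_centralizer_iff] at this
  exact this u hu

/-- common eigenvectors in the abelian case -/
theorem exists_eig [Finite G] (A X : Subgroup G) (hA : Cfsg.IsElementaryAbelian 2 A)
    (hXodd : Odd (Nat.card ↥X)) (hAX : A ≤ Subgroup.normalizer (X : Set G))
    (hXab : ∀ u ∈ X, ∀ v ∈ X, u * v = v * u) (a : G) (haA : a ∈ A)
    (haX : a ∉ Subgroup.centralizer (X : Set G)) :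
    ∃ x ∈ X, (orderOf x).Prime ∧ Eig A x ∧ a * x * a⁻¹ = x⁻¹ := by
  let Xm : Subgroup G :=
    { carrier := {x | x ∈ X ∧ a * x * a⁻¹ = x⁻¹}
      mul_mem' := by
        rintro x y ⟨hx, hx'⟩ ⟨hy, hy'⟩
        refine ⟨mul_mem hx hy, ?_⟩
        calc a * (x * y) * a⁻¹ = (a * x * a⁻¹) * (a * y * a⁻¹) := by group
          _ = x⁻¹ * y⁻¹ := by rw [hx', hy']
          _ = y⁻¹ * x⁻¹ := hXab _ (inv_mem hx) _ (inv_mem hy)
          _ = (x * y)⁻¹ := by group
      one_mem' := ⟨one_mem _, by group⟩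
      inv_mem' := by
        rintro x ⟨hx, hx'⟩
        refine ⟨inv_mem hx, ?_⟩
        calc a * x⁻¹ * a⁻¹ = (a * x * a⁻¹)⁻¹ := by group
          _ = x⁻¹⁻¹ := by rw [hx'] }
  have hmemXm : ∀ x, x ∈ Xm ↔ x ∈ X ∧ a * x * a⁻¹ = x⁻¹ := fun x => Iff.rfl
  have hXmne : Xm ≠ ⊥ := by
    intro h
    apply haX
    apply mem_centralizer_of_conj
    intro u hu
    have h1 : u⁻¹ * (a * u * a⁻¹) ∈ Xm :=
      (hmemXm _).mpr ⟨mul_mem (inv_mem hu) (conj_mem_of_le_normalizer' hAX haA hu),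
        conj_comm_inv (elemAb2_mul_self hA haA) u⟩
    rw [h, Subgroup.mem_bot] at h1
    calc a * u * a⁻¹ = u * (u⁻¹ * (a * u * a⁻¹)) := by group
      _ = u := by rw [h1, mul_one]
  have hAXm : A ≤ Subgroup.normalizer (Xm : Set G) := by
    apply le_normalizer_of_conj_mem'
    intro b hb x hx
    obtain ⟨hxX, hx'⟩ := (hmemXm x).mp hx
    refine (hmemXm _).mpr ⟨conj_mem_of_le_normalizer' hAX hb hxX, ?_⟩
    have h2 : a * b = b * a := elemAb_comm hA haA hb
    calc a * (b * x * b⁻¹) * a⁻¹ = (a * b) * x * (a * b)⁻¹ := by group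
      _ = b * (a * x * a⁻¹) * b⁻¹ := by rw [h2]; group
      _ = b * x⁻¹ * b⁻¹ := by rw [hx']
      _ = _ := by group
  obtain ⟨W, hW⟩ := exists_minimal_of_wellFoundedLT
    (fun W : Subgroup G => W ≠ ⊥ ∧ W ≤ Xm ∧ A ≤ Subgroup.normalizer (W : Set G)) ⟨Xm, hXmne, le_rfl, hAXm⟩
  obtain ⟨⟨hWne, hWX, hAW⟩, hmin⟩ := hW
  have hWX' : W ≤ X := fun w hw => ((hmemXm w).mp (hWX hw)).1
  have hdich : ∀ b ∈ A, (∀ w ∈ W, b * w * b⁻¹ = w) ∨ (∀ w ∈ W, b * w * b⁻¹ = w⁻¹) := by
    intro b hb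
    by_cases hbot : W ⊓ Subgroup.centralizer ({b} : Set G) = ⊥
    · right
      intro w hw
      have hbw : b * w * b⁻¹ ∈ W := conj_mem_of_le_normalizer' hAW hb hw
      have h1 : w * (b * w * b⁻¹) ∈ W ⊓ Subgroup.centralizer ({b} : Set G) := by
        refine Subgroup.mem_inf.mpr ⟨mul_mem hw hbw, ?_⟩
        rw [Subgroup.mem_centralizer_singleton_iff]
        symm
        apply conj_eq_iff_comm.mp
        have hbb := elemAb2_mul_self hA hb
        calc b * (w * (b * w * b⁻¹)) * b⁻¹ = (b * w * b⁻¹) * ((b * b) * w * (b * b)⁻¹) := by group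
          _ = (b * w * b⁻¹) * w := by rw [hbb]; group
          _ = _ := hXab _ (hWX' hbw) _ (hWX' hw)
      rw [hbot, Subgroup.mem_bot] at h1
      exact (eq_inv_of_mul_eq_one_right h1)
    · left
      have h1 : W ≤ W ⊓ Subgroup.centralizer ({b} : Set G) := by
        apply hmin _ inf_le_left
        refine ⟨hbot, inf_le_left.trans hWX, ?_⟩
        apply le_normalizer_of_conj_mem'
        intro c hc w hw
        obtain ⟨hwW, hwb⟩ := Subgroup.mem_inf.mp hw
        rw [Subgroup.mem_centralizer_singleton_iff] at hwb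
        refine Subgroup.mem_inf.mpr ⟨conj_mem_of_le_normalizer' hAW hc hwW, ?_⟩
        rw [Subgroup.mem_centralizer_singleton_iff]
        have h2 : c * b = b * c := elemAb_comm hA hc hb
        have h3 : c⁻¹ * b = b * c⁻¹ := elemAb_comm hA (inv_mem hc) hb
        calc c * w * c⁻¹ * b = c * w * (c⁻¹ * b) := by group
          _ = c * (w * b) * c⁻¹ := by rw [h3]; group
          _ = (c * b) * w * c⁻¹ := by rw [hwb]; group
          _ = _ := by rw [h2]; group
      intro w hw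
      have := (Subgroup.mem_inf.mp (h1 hw)).2
      rw [Subgroup.mem_centralizer_singleton_iff] at this
      exact conj_eq_iff_comm.mpr this.symm
  have hcard : Nat.card W ≠ 1 := by
    intro h
    exact hWne ((Subgroup.card_eq_one).mp h)
  obtain ⟨p, hp, hpd⟩ := Nat.exists_prime_and_dvd hcard
  have : Fact p.Prime := ⟨hp⟩
  obtain ⟨x, hx⟩ := exists_prime_orderOf_dvd_card' p hpd
  refine ⟨x.1, hWX' x.2, ?_, ?_, ((hmemXm _).mp (hWX x.2)).2⟩
  · rw [Subgroup.orderOf_coe, hx]; exact hp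
  · intro b hb
    rcases hdich b hb with h | h
    · exact Or.inl (h _ x.2)
    · exact Or.inr (h _ x.2)

theorem Eig.conj_pow {A : Subgroup G} {x : G} (h : Eig A x) : A ≤ Subgroup.normalizer
    ((Subgroup.zpowers x : Subgroup G) : Set G) := by
  apply le_normalizer_of_conj_mem'
  rintro b hb _ ⟨k, rfl⟩
  have e : b * x ^ k * b⁻¹ = (b * x * b⁻¹) ^ k := by
    rw [conj_zpow]
  show b * x ^ k * b⁻¹ ∈ _
  rw [e]
  rcases h b hb with h1 | h1
  · rw [h1]; exact Subgroup.zpow_mem_zpowers x k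
  · rw [h1]; exact Subgroup.zpow_mem _ (inv_mem (Subgroup.mem_zpowers x)) k

/-- the data produced by the dihedral lemma, for a subgroup `B` of `A` -/
structure DualSys (A B X : Subgroup G) (k : ℕ) (x a : Fin k → G) : Prop where
  memX : ∀ i, x i ∈ X
  prime : ∀ i, (orderOf (x i)).Prime
  eig : ∀ i, Eig A (x i)
  memB : ∀ i, a i ∈ B
  inv : ∀ i, a i * x i * (a i)⁻¹ = (x i)⁻¹
  cen : ∀ i j, i ≠ j → a i * x j * (a i)⁻¹ = x j
  faith : ∀ b ∈ B, (∀ i, b * x i * b⁻¹ = x i) → b = 1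

theorem DualSys.modify {A B X : Subgroup G} {k : ℕ} {x a : Fin k → G} (h : DualSys A B X k x a)
    (hBA : B ≤ A) {g : G} (hg : g ∈ A) (S : Finset (Fin k)) :
    ∃ c ∈ ⨆ i, Subgroup.zpowers (a i), ∀ i ∈ S, (g * c) * x i * (g * c)⁻¹ = x i := by
  have hT : (⨆ i, Subgroup.zpowers (a i)) ≤ A := by
    apply iSup_le
    intro i
    rw [Subgroup.zpowers_le]
    exact hBA (h.memB i)
  induction S using Finset.induction_on with
  | empty => exact ⟨1, one_mem _, fun i hi => absurd hi (Finset.notMem_empty i)⟩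
  | insert j S hj ih =>
    obtain ⟨c, hc, hcS⟩ := ih
    rcases h.eig j (g * c) (mul_mem hg (hT hc)) with h1 | h1
    · refine ⟨c, hc, ?_⟩
      intro i hi
      rcases Finset.mem_insert.mp hi with rfl | hi
      · exact h1
      · exact hcS i hi
    · refine ⟨c * a j, mul_mem hc (Subgroup.mem_iSup_of_mem j (Subgroup.mem_zpowers _)), ?_⟩
      intro i hi
      rcases Finset.mem_insert.mp hi with rfl | hi
      · calc g * (c * a i) * x i * (g * (c * a i))⁻¹
            = (g * c) * (a i * x i * (a i)⁻¹) * (g * c)⁻¹ := by group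
          _ = ((g * c) * x i * (g * c)⁻¹)⁻¹ := by rw [h.inv]; group
          _ = x i := by rw [h1, inv_inv]
      · have hij : j ≠ i := fun e => hj (e ▸ hi)
        calc g * (c * a j) * x i * (g * (c * a j))⁻¹
            = (g * c) * (a j * x i * (a j)⁻¹) * (g * c)⁻¹ := by group
          _ = (g * c) * x i * (g * c)⁻¹ := by rw [h.cen j i hij]
          _ = x i := hcS i hi

theorem DualSys.iSup_eq {A B X : Subgroup G} {k : ℕ} {x a : Fin k → G} (h : DualSys A B X k x a)
    (hBA : B ≤ A) : (⨆ i, Subgroup.zpowers (a i)) = B := by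
  have hT : (⨆ i, Subgroup.zpowers (a i)) ≤ B := by
    apply iSup_le
    intro i
    rw [Subgroup.zpowers_le]
    exact h.memB i
  apply le_antisymm hT
  intro b hb
  obtain ⟨c, hc, hcS⟩ := h.modify hBA (hBA hb) Finset.univ
  have h1 := h.faith (b * c) (mul_mem hb (hT hc)) (fun i => hcS i (Finset.mem_univ i))
  have h2 : b = c⁻¹ := eq_inv_of_mul_eq_one_left h1
  rw [h2]
  exact inv_mem hc

theorem exists_dualSys [Finite G] (A X : Subgroup G) (hA : Cfsg.IsElementaryAbelian 2 A)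
    (hXodd : Odd (Nat.card ↥X)) (hAX : A ≤ Subgroup.normalizer (X : Set G))
    (hXab : ∀ u ∈ X, ∀ v ∈ X, u * v = v * u) (hf : A ⊓ Subgroup.centralizer (X : Set G) = ⊥) (k : ℕ) :
    ∀ B : Subgroup G, B ≤ A → Nat.card B = 2 ^ k → ∃ x a : Fin k → G, DualSys A B X k x a := by
  induction k with
  | zero =>
    intro B hBA hB
    refine ⟨Fin.elim0, Fin.elim0, ⟨fun i => i.elim0, fun i => i.elim0, fun i => i.elim0,
      fun i => i.elim0, fun i => i.elim0, fun i => i.elim0, ?_⟩⟩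
    intro b hb _
    rw [pow_zero, Subgroup.card_eq_one] at hB
    rwa [hB, Subgroup.mem_bot] at hb
  | succ k ih =>
    intro B hBA hB
    have hBne : B ≠ ⊥ := by
      intro h
      rw [h, Subgroup.card_bot] at hB
      have : 1 < 2 ^ (k + 1) := Nat.one_lt_two_pow (by omega)
      omega
    obtain ⟨⟨b₀, hb₀⟩, hb₀1'⟩ := Subgroup.ne_bot_iff_exists_ne_one.mp hBne
    have hb₀1 : b₀ ≠ 1 := fun h => hb₀1' (Subtype.ext h)
    have hb₀X : b₀ ∉ Subgroup.centralizer (X : Set G) := fun h => hb₀1 (by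
      have : b₀ ∈ A ⊓ Subgroup.centralizer (X : Set G) := Subgroup.mem_inf.mpr ⟨hBA hb₀, h⟩
      rwa [hf, Subgroup.mem_bot] at this)
    obtain ⟨x₀, hx₀X, hx₀p, hx₀E, hx₀inv⟩ := exists_eig A X hA hXodd hAX hXab b₀ (hBA hb₀) hb₀X
    have hx₀1 : x₀ ≠ 1 := by
      intro h
      rw [h, orderOf_one] at hx₀p
      exact Nat.not_prime_one hx₀p
    obtain ⟨B', hB'⟩ : ∃ B', B' = B ⊓ Subgroup.centralizer ({x₀} : Set G) := ⟨_, rfl⟩
    have hB'B : B' ≤ B := hB' ▸ inf_le_left
    have hmemB' : ∀ b, b ∈ B' ↔ b ∈ B ∧ b * x₀ * b⁻¹ = x₀ := by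
      intro b
      rw [hB', Subgroup.mem_inf, Subgroup.mem_centralizer_singleton_iff, conj_eq_iff_comm]
    have hidx : B'.relIndex B = 2 := by
      rw [Subgroup.relIndex_eq_two_iff_exists_notMem_and]
      refine ⟨b₀, hb₀, ?_, ?_⟩
      · intro h
        have h1 := ((hmemB' _).mp h).2
        rw [hx₀inv] at h1
        exact hx₀1 (eq_one_of_eq_inv_odd hXodd hx₀X h1.symm)
      · intro b hb
        rcases hx₀E b (hBA hb) with h | h
        · exact Or.inr ((hmemB' _).mpr ⟨hb, h⟩)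
        · left
          refine (hmemB' _).mpr ⟨mul_mem hb hb₀, ?_⟩
          calc b * b₀ * x₀ * (b * b₀)⁻¹ = b * (b₀ * x₀ * b₀⁻¹) * b⁻¹ := by group
            _ = (b * x₀ * b⁻¹)⁻¹ := by rw [hx₀inv]; group
            _ = x₀ := by rw [h, inv_inv]
    have hcardB' : Nat.card B' = 2 ^ k := by
      have h1 := card_eq_mul_relIndex hB'B
      rw [hidx, hB, pow_succ] at h1
      omega
    obtain ⟨x', a', hD⟩ := ih B' (hB'B.trans hBA) hcardB'
    obtain ⟨c, hc, hcS⟩ := hD.modify (hB'B.trans hBA) (hBA hb₀) Finset.univ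
    rw [hD.iSup_eq (hB'B.trans hBA)] at hc
    have hcx₀ := ((hmemB' _).mp hc).2
    refine ⟨Fin.cons x₀ x', Fin.cons (b₀ * c) a', ⟨?_, ?_, ?_, ?_, ?_, ?_, ?_⟩⟩
    · intro i
      refine Fin.cases ?_ (fun i => ?_) i
      · exact hx₀X
      · exact hD.memX i
    · intro i
      refine Fin.cases ?_ (fun i => ?_) i
      · exact hx₀p
      · exact hD.prime i
    · intro i
      refine Fin.cases ?_ (fun i => ?_) i
      · exact hx₀E
      · exact hD.eig i
    · intro i
      refine Fin.cases ?_ (fun i => ?_) i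
      · exact mul_mem hb₀ (hB'B hc)
      · exact hB'B (hD.memB i)
    · intro i
      refine Fin.cases ?_ (fun i => ?_) i
      · show b₀ * c * x₀ * (b₀ * c)⁻¹ = x₀⁻¹
        calc b₀ * c * x₀ * (b₀ * c)⁻¹ = b₀ * (c * x₀ * c⁻¹) * b₀⁻¹ := by group
          _ = x₀⁻¹ := by rw [hcx₀, hx₀inv]
      · exact hD.inv i
    · intro i j
      refine Fin.cases ?_ (fun i => ?_) i
      · refine Fin.cases ?_ (fun j => ?_) j
        · intro h; exact absurd rfl h
        · intro _
          exact hcS j (Finset.mem_univ j)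
      · refine Fin.cases ?_ (fun j => ?_) j
        · intro _
          exact ((hmemB' _).mp (hD.memB i)).2
        · intro h
          exact hD.cen i j (fun e => h (by rw [e]))
    · intro b hb hall
      have h0 : b * x₀ * b⁻¹ = x₀ := hall 0
      exact hD.faith b ((hmemB' _).mpr ⟨hb, h0⟩) (fun i => hall i.succ)

end Cfsg.Agent.Lib.Helper9
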