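import Mathlib
import Cfsg.Agent.Lib.Helper1.Nilp
import Cfsg.Agent.Lib.Helper8.Cores

set_option autoImplicit false

/-! The dual of Thompson's `P × Q` lemma. -/

namespace Cfsg.Agent.Lib.Helper9

open Cfsg.Agent.Lib.Helper1
open scoped commutatorElement

universe u
variable {G : Type u} [Group G]

theorem le_normalizer_commutator_of {X Y Z : Subgroup G} (h1 : X ≤ Subgroup.normalizer (Y : Set G))
    (h2 : X ≤ Subgroup.normalizer (Z : Set G)) :
    X ≤ Subgroup.normalizer ((⁅Y, Z⁆ : Subgroup G) : Set G) := by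
  intro a ha
  rw [Subgroup.mem_normalizer_iff_map_conj_eq, Subgroup.map_commutator,
    Subgroup.mem_normalizer_iff_map_conj_eq.mp (h1 ha), Subgroup.mem_normalizer_iff_map_conj_eq.mp (h2 ha)]

theorem le_normalizer_centralizer_of {X Y : Subgroup G} (h1 : X ≤ Subgroup.normalizer (Y : Set G)) :
    X ≤ Subgroup.normalizer ((Subgroup.centralizer (Y : Set G) : Subgroup G) : Set G) := by
  apply le_normalizer_of_forall_conj_mem
  intro x hx c hc
  rw [Subgroup.mem_centralizer_iff] at hc ⊢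
  intro y hy
  have h2 := hc _ (conj_mem_of_mem_normalizer' (h1 hx) hy)
  calc y * (x * c * x⁻¹) = x * ((x⁻¹ * y * x) * c) * x⁻¹ := by group
    _ = x * (c * (x⁻¹ * y * x)) * x⁻¹ := by rw [h2]
    _ = _ := by group

/-- dual `P × Q` lemma: `D` a `p'`-group commuting with the `p`-group `P`, both acting on the `p`-group `E`;
if `[E, D] ≤ [E, P]` then `D` centralizes `E`. -/
theorem dual_PxQ [Finite G] (p : ℕ) [Fact p.Prime] (P D E : Subgroup G) (hP : IsPGroup p P)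
    (hD : (Nat.card D).Coprime p) (hPD : P ≤ Subgroup.centralizer (D : Set G)) (hE : IsPGroup p E)
    (hPE : P ≤ Subgroup.normalizer (E : Set G)) (hDE : D ≤ Subgroup.normalizer (E : Set G))
    (h : ⁅E, D⁆ ≤ ⁅E, P⁆) : ⁅E, D⁆ = ⊥ := by
  by_contra hW
  obtain ⟨W, hWdef⟩ : ∃ W, W = ⁅E, D⁆ := ⟨_, rfl⟩
  rw [← hWdef] at hW h
  have hcop : (Nat.card D).Coprime (Nat.card E) := coprime_card_of_isPGroup hE hD
  have hsolv : Group.IsSolvable D ∨ Group.IsSolvable E := Or.inr (solvable_of_isPGroup hE)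
  have hWE : W ≤ E := hWdef ▸ commutator_le_of_le_normalizer hDE
  have hWp : IsPGroup p W := hE.to_le hWE
  have hPnD : P ≤ Subgroup.normalizer (D : Set G) := hPD.trans (Subgroup.centralizer_le_normalizer _)
  have hDnP : D ≤ Subgroup.normalizer (P : Set G) :=
    (Subgroup.le_centralizer_iff.mp hPD).trans (Subgroup.centralizer_le_normalizer _)
  obtain ⟨T, hT⟩ : ∃ T, T = E ⊔ P := ⟨_, rfl⟩
  have hTp : IsPGroup p T := hT ▸ hE.to_sup_of_normal_left' hP hPE
  have hET : E ≤ T := hT ▸ le_sup_left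
  have hPT : P ≤ T := hT ▸ le_sup_right
  have hTW : T ≤ Subgroup.normalizer (W : Set G) := by
    rw [hT, hWdef]
    exact sup_le (le_normalizer_commutator_left E D) (le_normalizer_commutator_of hPE hPnD)
  have hDW : D ≤ Subgroup.normalizer (W : Set G) := hWdef ▸ le_normalizer_commutator_right hDE
  have hDT : D ≤ Subgroup.normalizer (T : Set G) := by
    rw [hT]
    intro a ha
    rw [Subgroup.mem_normalizer_iff_map_conj_eq, Subgroup.map_sup,
      Subgroup.mem_normalizer_iff_map_conj_eq.mp (hDE ha), Subgroup.mem_normalizer_iff_map_conj_eq.mp (hDnP ha)]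
  obtain ⟨W₁, hW₁⟩ : ∃ W₁, W₁ = ⁅W, T⁆ := ⟨_, rfl⟩
  have hlt : W₁ < W := hW₁ ▸ commutator_lt_of_pgroups hWp hTp hTW hW
  have hTW₁ : T ≤ Subgroup.normalizer (W₁ : Set G) := hW₁ ▸ le_normalizer_commutator_right hTW
  have hDW₁ : D ≤ Subgroup.normalizer (W₁ : Set G) := hW₁ ▸ le_normalizer_commutator_of hDW hDT
  obtain ⟨C, hC⟩ : ∃ C, C = E ⊓ Subgroup.centralizer (D : Set G) := ⟨_, rfl⟩
  have hCE : C ≤ E := hC ▸ inf_le_left
  have hCW₁ : C ≤ Subgroup.normalizer (W₁ : Set G) := (hCE.trans hET).trans hTW₁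
  have hPC : P ≤ Subgroup.normalizer (C : Set G) :=
    hC ▸ le_normalizer_inf hPE (le_normalizer_centralizer_of hPnD)
  have hA : ⁅E, P⁆ ≤ W₁ ⊔ C := by
    rw [Subgroup.commutator_le]
    intro e he z hz
    obtain ⟨w, hw, c, hc, rfl⟩ := coprime_decomp D E hDE hcop hsolv e he
    rw [← hWdef] at hw
    rw [← hC] at hc
    have hc' : ⁅c, z⁆ ∈ C := by
      have : ⁅c, z⁆ = c * (z * c⁻¹ * z⁻¹) := by rw [commutatorElement_def]; group
      rw [this]
      exact mul_mem hc (conj_mem_of_mem_normalizer (hPC hz) (inv_mem hc))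
    have e1 : ⁅w * c, z⁆ = ⁅w, ⁅c, z⁆⁆ * ⁅c, z⁆ * ⁅w, z⁆ := by
      simp only [commutatorElement_def]; group
    rw [e1]
    have h1 : ⁅w, ⁅c, z⁆⁆ ∈ W₁ := by
      rw [hW₁]; exact Subgroup.commutator_mem_commutator hw (hET (hCE hc'))
    have h2 : ⁅w, z⁆ ∈ W₁ := by
      rw [hW₁]; exact Subgroup.commutator_mem_commutator hw (hPT hz)
    exact mul_mem (mul_mem ((le_sup_left : W₁ ≤ W₁ ⊔ C) h1) ((le_sup_right : C ≤ W₁ ⊔ C) hc'))
      ((le_sup_left : W₁ ≤ W₁ ⊔ C) h2)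
  have hB : ⁅W, D⁆ ≤ W₁ := by
    rw [Subgroup.commutator_le]
    intro w hw d hd
    obtain ⟨c, hc, w₁, hw₁, rfl⟩ := (Cfsg.Agent.Lib.Helper8.mem_sup_of_le_normalizer hCW₁).mp (hA (h hw))
    have hcd : d * c = c * d := by
      rw [hC] at hc
      exact (Subgroup.mem_centralizer_iff.mp (Subgroup.mem_inf.mp hc).2) d hd
    have hcd' : d * c⁻¹ * d⁻¹ = c⁻¹ := by
      calc d * c⁻¹ * d⁻¹ = c⁻¹ * (c * d) * c⁻¹ * d⁻¹ := by group
        _ = c⁻¹ * (d * c) * c⁻¹ * d⁻¹ := by rw [hcd]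
        _ = _ := by group
    have e1 : ⁅c * w₁, d⁆ = c * (w₁ * (d * w₁⁻¹ * d⁻¹)) * (d * c⁻¹ * d⁻¹) := by
      rw [commutatorElement_def]; group
    rw [e1, hcd']
    exact conj_mem_of_mem_normalizer (hCW₁ hc)
      (mul_mem hw₁ (conj_mem_of_mem_normalizer (hDW₁ hd) (inv_mem hw₁)))
  have hstab : ⁅W, D⁆ = W := by
    rw [hWdef]; exact coprime_commutator_stable D E hDE hcop hsolv
  rw [hstab] at hB
  exact absurd hB (not_le_of_gt hlt)

end Cfsg.Agent.Lib.Helper9
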