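import Mathlib
import Cfsg.Agent.Lib.Helper9.Layer
import Cfsg.Agent.Lib.Helper9.DualPQ
import Cfsg.Agent.Lib.Helper20.Primary
import Cfsg.Agent.Lib.Helper8.PComp

set_option autoImplicit false

/-! Action of a `p`-group on subnormal subgroups of `F*(H)` when `O_p(H) = 1`. -/

namespace Cfsg.Agent.Lib.Helper9

open Cfsg.Agent.Lib.Helper8
open scoped commutatorElement

universe u
variable {G : Type u} [Group G]

theorem perfect_rot {K C : Subgroup G} (hK : ⁅K, K⁆ = K) (h : ⁅⁅C, K⁆, K⁆ = ⊥) :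
    C ≤ Subgroup.centralizer (K : Set G) := by
  have h2 : ⁅⁅K, C⁆, K⁆ = ⊥ := by rw [Subgroup.commutator_comm K C]; exact h
  have h3 : ⁅⁅K, K⁆, C⁆ = ⊥ := Subgroup.commutator_commutator_eq_bot_of_rotate h2 h
  rw [hK, Subgroup.commutator_eq_bot_iff_le_centralizer] at h3
  exact Subgroup.le_centralizer_iff.mp h3

/-- a quasisimple `K` normal in `L` and not centralized by `Y` lies in `[L, Y]` -/
theorem qs_le_commutator_of_not_le {K L Y : Subgroup G} (hK : QS K) (hKL : K ≤ L)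
    (hLK : L ≤ Subgroup.normalizer (K : Set G)) (hYL : Y ≤ Subgroup.normalizer (L : Set G))
    (hY : ¬ Y ≤ Subgroup.centralizer (K : Set G)) : K ≤ ⁅L, Y⁆ := by
  have hNL : ⁅L, Y⁆ ≤ L := Cfsg.Agent.Lib.Helper1.commutator_le_of_le_normalizer hYL
  have hLN : L ≤ Subgroup.normalizer ((⁅L, Y⁆ : Subgroup G) : Set G) :=
    Cfsg.Agent.Lib.Helper1.le_normalizer_commutator_left L Y
  have h1 : K ≤ Subgroup.normalizer ((⁅L, Y⁆ ⊓ K : Subgroup G) : Set G) :=
    Cfsg.Agent.Lib.Helper1.le_normalizer_inf (hKL.trans hLN) Subgroup.le_normalizer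
  rcases hK.2.2 (⁅L, Y⁆ ⊓ K) inf_le_right h1 with h | h
  · rw [← h]; exact inf_le_left
  · exfalso
    apply hY
    have h2 : ⁅⁅L, Y⁆, K⁆ ≤ ⁅L, Y⁆ ⊓ K :=
      le_inf (Cfsg.Agent.Lib.Helper1.commutator_le_of_le_normalizer (hKL.trans hLN))
        (commutator_le_right_of_le_normalizer (hNL.trans hLK))
    have h3 : ⁅⁅⁅L, Y⁆, K⁆, K⁆ = ⊥ := by
      rw [eq_bot_iff, ← h]
      exact Subgroup.commutator_mono h2 le_rfl
    have h4 : ⁅L, Y⁆ ≤ Subgroup.centralizer (K : Set G) := perfect_rot hK.1 h3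
    apply perfect_rot hK.1
    rw [Subgroup.commutator_eq_bot_iff_le_centralizer, Subgroup.commutator_comm Y K]
    exact (Subgroup.commutator_mono hKL le_rfl).trans h4

theorem split_core [Finite G] (p : ℕ) [Fact p.Prime] (L Y FL : Subgroup G) (𝒞 : Set (Subgroup G))
    (hY : IsPGroup p Y) (hYL : Y ≤ Subgroup.normalizer (L : Set G)) (hgen : L ≤ sSup 𝒞 ⊔ FL)
    (h𝒞 : ∀ K ∈ 𝒞, QS K ∧ K ≤ L ∧ L ≤ Subgroup.normalizer (K : Set G)) (hFL : FL ≤ L)
    (hYF : Y ≤ Subgroup.normalizer (FL : Set G)) (hcop : (Nat.card FL).Coprime p) :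
    ⁅L, Y⁆ ⊔ (L ⊓ Subgroup.centralizer (Y : Set G)) = L := by
  apply le_antisymm (sup_le (Cfsg.Agent.Lib.Helper1.commutator_le_of_le_normalizer hYL) inf_le_left)
  refine hgen.trans (sup_le (sSup_le ?_) ?_)
  · intro K hK
    obtain ⟨hQS, hKL, hLK⟩ := h𝒞 K hK
    by_cases hc : Y ≤ Subgroup.centralizer (K : Set G)
    · exact (le_inf hKL (Subgroup.le_centralizer_iff.mp hc)).trans le_sup_right
    · exact (qs_le_commutator_of_not_le hQS hKL hLK hYL hc).trans le_sup_left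
  · have hcop' : (Nat.card Y).Coprime (Nat.card FL) := by
      obtain ⟨n, hn⟩ := IsPGroup.iff_card.mp hY
      rw [hn]
      exact (Nat.Coprime.pow_right n hcop).symm
    have h1 := Cfsg.Agent.Lib.Helper1.coprime_commutator_sup_centralizer Y FL hYF hcop'
      (Or.inl (Cfsg.Agent.Lib.Helper1.solvable_of_isPGroup hY))
    rw [← h1]
    exact sup_le_sup (Subgroup.commutator_mono hFL le_rfl) (inf_le_inf hFL le_rfl)

theorem comm_stable_of_split {L Y : Subgroup G} (hYL : Y ≤ Subgroup.normalizer (L : Set G))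
    (h : ⁅L, Y⁆ ⊔ (L ⊓ Subgroup.centralizer (Y : Set G)) = L) : ⁅L, Y⁆ = ⁅⁅L, Y⁆, Y⁆ := by
  have hNL : ⁅L, Y⁆ ≤ L := Cfsg.Agent.Lib.Helper1.commutator_le_of_le_normalizer hYL
  have hLN : L ≤ Subgroup.normalizer ((⁅L, Y⁆ : Subgroup G) : Set G) :=
    Cfsg.Agent.Lib.Helper1.le_normalizer_commutator_left L Y
  apply le_antisymm _ (Subgroup.commutator_mono hNL le_rfl)
  have hCN : L ⊓ Subgroup.centralizer (Y : Set G) ≤ Subgroup.normalizer ((⁅L, Y⁆ : Subgroup G) : Set G) :=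
    inf_le_left.trans hLN
  have hCY : L ⊓ Subgroup.centralizer (Y : Set G) ≤ Subgroup.normalizer (Y : Set G) :=
    inf_le_right.trans (Subgroup.centralizer_le_normalizer _)
  have hCNN := le_normalizer_commutator_of hCN hCY
  rw [Subgroup.commutator_le]
  intro x hx y hy
  rw [← h] at hx
  obtain ⟨c, hc, n, hn, rfl⟩ := (Cfsg.Agent.Lib.Helper8.mem_sup_of_le_normalizer hCN).mp hx
  have hcy : y * c = c * y := (Subgroup.mem_centralizer_iff.mp (Subgroup.mem_inf.mp hc).2) y hy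
  have hcy' : y * c⁻¹ * y⁻¹ = c⁻¹ := by
    calc y * c⁻¹ * y⁻¹ = c⁻¹ * (c * y) * c⁻¹ * y⁻¹ := by group
      _ = c⁻¹ * (y * c) * c⁻¹ * y⁻¹ := by rw [hcy]
      _ = _ := by group
  have e1 : ⁅c * n, y⁆ = c * ⁅n, y⁆ * (y * c⁻¹ * y⁻¹) := by
    simp only [commutatorElement_def]; group
  rw [e1, hcy']
  exact Cfsg.Agent.Lib.Helper1.conj_mem_of_mem_normalizer (hCNN hc)
    (Subgroup.commutator_mem_commutator hn hy)

/-- `F(H)` is a `p'`-group when `O_p(H) = 1` -/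
theorem card_fitting_coprime [Finite G] {p : ℕ} [Fact p.Prime] (hO : Cfsg.pCore p G = ⊥) :
    (Nat.card (Cfsg.fittingSubgroup G)).Coprime p := by
  have hpp : p.Prime := Fact.out
  rw [Nat.coprime_comm, Nat.Prime.coprime_iff_not_dvd hpp]
  intro hd
  obtain ⟨x, hx⟩ := exists_prime_orderOf_dvd_card' p hd
  have h1 := Cfsg.Agent.Lib.Helper20.mem_pCore_of_mem_fitting x.2
    ⟨1, by rw [Subgroup.orderOf_coe, hx, pow_one]⟩
  rw [hO, Subgroup.mem_bot] at h1
  rw [← Subgroup.orderOf_coe, h1, orderOf_one] at hx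
  exact hpp.one_lt.ne hx

/-- `F*(G)` normalizes every component -/
theorem fstar_le_normalizer_comp [Finite G] {K : Subgroup G} (hK : Cfsg.IsComponent K) :
    Cfsg.generalizedFittingSubgroup G ≤ Subgroup.normalizer (K : Set G) := by
  apply sup_le (layer_le_normalizer_of_isComponent hK)
  have h := comp_comm_fitting hK
  rw [Subgroup.commutator_eq_bot_iff_le_centralizer] at h
  exact (Subgroup.le_centralizer_iff.mp h).trans (Subgroup.centralizer_le_normalizer _)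

/-- the normalizer of `L` normalizes `F(L)` -/
theorem le_normalizer_map_fitting [Finite G] {A L : Subgroup G} (hAL : A ≤ Subgroup.normalizer (L : Set G)) :
    A ≤ Subgroup.normalizer (((Cfsg.fittingSubgroup ↥L).map L.subtype : Subgroup G) : Set G) := by
  obtain ⟨F, hF⟩ : ∃ F, F = (Cfsg.fittingSubgroup ↥L).map L.subtype := ⟨_, rfl⟩
  rw [← hF]
  have hFL : F ≤ L := hF ▸ Subgroup.map_subtype_le _
  have hFnil : Group.IsNilpotent F := by
    rw [hF]
    have := Cfsg.Agent.Lib.Helper1.fitting_nilpotent (G := ↥L)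
    exact Group.nilpotent_of_mulEquiv
      (Subgroup.equivMapOfInjective (Cfsg.fittingSubgroup ↥L) L.subtype L.subtype_injective)
  have hFn : (Cfsg.fittingSubgroup ↥L).Normal := Cfsg.Agent.Lib.Helper1.fitting_normal
  have hLF : ∀ n ∈ L, ∀ z ∈ F, n * z * n⁻¹ ∈ F := by
    intro n hn z hz
    rw [hF] at hz ⊢
    obtain ⟨z', hz', rfl⟩ := hz
    exact ⟨⟨n, hn⟩ * z' * ⟨n, hn⟩⁻¹, hFn.conj_mem z' hz' _, rfl⟩
  have hmax : ∀ N : Subgroup G, N ≤ L → L ≤ Subgroup.normalizer (N : Set G) → Group.IsNilpotent N →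
      N ≤ F := by
    intro N hNL hLN hNnil
    have h1 : (N.subgroupOf L).Normal := Subgroup.normal_subgroupOf_of_le_normalizer hLN
    have h2 : Group.IsNilpotent (N.subgroupOf L) :=
      Group.nilpotent_of_mulEquiv (Subgroup.subgroupOfEquivOfLe hNL).symm
    have h3 : N.subgroupOf L ≤ Cfsg.fittingSubgroup ↥L := le_sSup ⟨h1, h2⟩
    intro x hx
    rw [hF]
    exact ⟨⟨x, hNL hx⟩, h3 (Subgroup.mem_subgroupOf.mpr hx), rfl⟩
  apply Cfsg.Agent.Lib.Helper1.le_normalizer_of_forall_conj_mem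
  intro b hb w hw
  have h1 : F.map (MulAut.conj b).toMonoidHom ≤ F := by
    apply hmax
    · rintro _ ⟨z, hz, rfl⟩
      exact Cfsg.Agent.Lib.Helper1.conj_mem_of_mem_normalizer (hAL hb) (hFL hz)
    · apply Cfsg.Agent.Lib.Helper1.le_normalizer_of_forall_conj_mem
      rintro n hn _ ⟨z, hz, rfl⟩
      have h2 : b⁻¹ * n * b⁻¹⁻¹ ∈ L :=
        Cfsg.Agent.Lib.Helper1.conj_mem_of_mem_normalizer (hAL (inv_mem hb)) hn
      refine ⟨(b⁻¹ * n * b⁻¹⁻¹) * z * (b⁻¹ * n * b⁻¹⁻¹)⁻¹, hLF _ h2 z hz, ?_⟩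
      show b * ((b⁻¹ * n * b⁻¹⁻¹) * z * (b⁻¹ * n * b⁻¹⁻¹)⁻¹) * b⁻¹ = n * (b * z * b⁻¹) * n⁻¹
      group
    · exact Group.nilpotent_of_mulEquiv
        (Subgroup.equivMapOfInjective F (MulAut.conj b).toMonoidHom (MulAut.conj b).injective)
  exact h1 ⟨w, hw, rfl⟩

end Cfsg.Agent.Lib.Helper9
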