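import Mathlib
import Cfsg.Agent.Lib.Helper4.NilpFusion

set_option autoImplicit false
open Pointwise

namespace Cfsg.Agent.Lib.Helper9.NilCover

variable {G : Type*} [Group G]

/-- nilpotent minimal cover -/
def IsNMC (𝓐 : Finset (Subgroup G)) : Prop :=
  ((∀ A ∈ 𝓐, A ≠ ⊤) ∧ (∀ g : G, ∃ A ∈ 𝓐, g ∈ A)) ∧
    (∀ 𝓑 : Finset (Subgroup G), (∀ A ∈ 𝓑, A ≠ ⊤) ∧ (∀ g : G, ∃ A ∈ 𝓑, g ∈ A) →
      𝓐.card ≤ 𝓑.card) ∧ (∀ A ∈ 𝓐, Group.IsNilpotent ↥A)

theorem uniq {𝓐 : Finset (Subgroup G)} (h : IsNMC 𝓐) (B : Subgroup G) (hB : B ≠ ⊤)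
    {A₁ A₂ : Subgroup G} (hA₁ : A₁ ∈ 𝓐) (hA₂ : A₂ ∈ 𝓐) (h1B : A₁ ≤ B) (h2B : A₂ ≤ B) :
    A₁ = A₂ := by
  classical
  by_contra hne'
  have hne : A₂ ≠ A₁ := fun h => hne' h.symm
  obtain ⟨⟨hpr, hcov⟩, hmin, hnil⟩ := h
  have h := hmin (insert B ((𝓐.erase A₁).erase A₂)) ⟨?_, ?_⟩
  · have h1 : ((𝓐.erase A₁).erase A₂).card = 𝓐.card - 1 - 1 := by
      rw [Finset.card_erase_of_mem (Finset.mem_erase.mpr ⟨hne, hA₂⟩),
        Finset.card_erase_of_mem hA₁]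
    have h2 := Finset.card_insert_le B ((𝓐.erase A₁).erase A₂)
    have h3 : 2 ≤ 𝓐.card := by
      have : ({A₁, A₂} : Finset (Subgroup G)) ⊆ 𝓐 := by
        intro x hx
        simp only [Finset.mem_insert, Finset.mem_singleton] at hx
        rcases hx with rfl | rfl <;> assumption
      have h4 := Finset.card_le_card this
      rwa [Finset.card_pair hne.symm] at h4
    omega
  · intro A hA
    rw [Finset.mem_insert] at hA
    rcases hA with rfl | hA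
    · exact hB
    · exact hpr A (Finset.mem_of_mem_erase (Finset.mem_of_mem_erase hA))
  · intro g
    obtain ⟨A, hA, hg⟩ := hcov g
    by_cases h1 : A = A₁
    · subst h1
      exact ⟨B, Finset.mem_insert_self _ _, h1B hg⟩
    by_cases h2 : A = A₂
    · subst h2
      exact ⟨B, Finset.mem_insert_self _ _, h2B hg⟩
    exact ⟨A, Finset.mem_insert_of_mem (Finset.mem_erase.mpr ⟨h2, Finset.mem_erase.mpr ⟨h1, hA⟩⟩), hg⟩

theorem zp {X : Type*} [Group X] {p : ℕ} (x : X) (k : ℕ) (hx : x ^ p ^ k = 1) :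
    IsPGroup p (Subgroup.zpowers x) := by
  rintro ⟨y, hy⟩
  obtain ⟨j, rfl⟩ := Subgroup.mem_zpowers_iff.mp hy
  refine ⟨k, Subtype.ext ?_⟩
  show (x ^ j) ^ p ^ k = 1
  rw [← zpow_natCast, ← zpow_mul, mul_comm, zpow_mul, zpow_natCast, hx, one_zpow]

theorem pcomm [Finite G] {p : ℕ} [Fact p.Prime] (P : Sylow p G)
    (hab : ∀ x ∈ P, ∀ y ∈ P, x * y = y * x) (R : Subgroup G) (hR : IsPGroup p R) :
    ∀ x ∈ R, ∀ y ∈ R, x * y = y * x := by
  obtain ⟨Q, hQ⟩ := hR.exists_le_sylow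
  obtain ⟨g, rfl⟩ := MulAction.exists_smul_eq G P Q
  intro x hx y hy
  have hx' : x ∈ ((g • P : Sylow p G) : Subgroup G) := hQ hx
  have hy' : y ∈ ((g • P : Sylow p G) : Subgroup G) := hQ hy
  rw [Sylow.coe_subgroup_smul, Subgroup.mem_pointwise_smul_iff_inv_smul_mem] at hx' hy'
  have := hab _ hx' _ hy'
  simp only [MulAut.smul_def, MulAut.conj_inv_apply] at this
  have h2 := congrArg (fun z => g * z * g⁻¹) this
  simpa [mul_assoc] using h2

theorem mem_sylow_of_normal {X : Type*} [Group X] {p : ℕ} [Fact p.Prime] (Q : Sylow p X)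
    [hn : (Q : Subgroup X).Normal] (x : X) (k : ℕ) (hx : x ^ p ^ k = 1) : x ∈ Q := by
  have h1 : IsPGroup p (Subgroup.zpowers x ⊔ (Q : Subgroup X) : Subgroup X) :=
    (zp x k hx).to_sup_of_normal_right Q.2
  have h2 := Q.is_maximal' h1 le_sup_right
  have h3 : x ∈ (Subgroup.zpowers x ⊔ (Q : Subgroup X) : Subgroup X) :=
    (le_sup_left : Subgroup.zpowers x ≤ _) (Subgroup.mem_zpowers x)
  rw [h2] at h3
  exact h3

theorem split_elt [Finite G] {p : ℕ} [hp : Fact p.Prime] (a : G) :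
    ∃ (N M e m : ℕ), m.Coprime p ∧ a = a ^ N * a ^ M ∧ (a ^ N) ^ p ^ e = 1 ∧ (a ^ M) ^ m = 1 := by
  obtain ⟨e, m, hm, hn⟩ := Nat.exists_eq_pow_mul_and_not_dvd (orderOf_pos a).ne' p hp.out.ne_one
  have hc : (p ^ e).Coprime m :=
    Nat.Coprime.pow_left _ ((Nat.Prime.coprime_iff_not_dvd hp.out).mpr hm)
  obtain ⟨N, M, hN, hM, hNM⟩ := Cfsg.Agent.Lib.Helper4.exists_part_exponents hc
  refine ⟨N, M, e, m, ((Nat.Prime.coprime_iff_not_dvd hp.out).mpr hm).symm, ?_, ?_, ?_⟩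
  · rw [← pow_add]
    have : a ^ (N + M) = a ^ 1 := by
      rw [pow_eq_pow_iff_modEq, hn]
      exact hNM
    rw [this, pow_one]
  · rw [← pow_mul]
    apply orderOf_dvd_iff_pow_eq_one.mp
    rw [hn, mul_comm]
    exact Nat.mul_dvd_mul hN dvd_rfl
  · rw [← pow_mul]
    apply orderOf_dvd_iff_pow_eq_one.mp
    rw [hn]
    exact Nat.mul_dvd_mul hM dvd_rfl

theorem central_p [Finite G] {p : ℕ} [hp : Fact p.Prime]
    (hpc : ∀ R : Subgroup G, IsPGroup p R → ∀ x ∈ R, ∀ y ∈ R, x * y = y * x)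
    (A : Subgroup G) (hA : Group.IsNilpotent A) (u : G) (hu : u ∈ A) (k : ℕ)
    (huk : u ^ p ^ k = 1) : ∀ a ∈ A, a * u = u * a := by
  intro a ha
  obtain ⟨N, M, e, m, hm, hsplit, hb, hc⟩ := split_elt (p := p) a
  have h1 : a ^ M * u = u * a ^ M :=
    Cfsg.Agent.Lib.Helper4.commute_of_coprime_pow_mem hA (pow_mem ha M) hu
      (Nat.Coprime.pow_right k hm) hc huk
  have h2 : a ^ N * u = u * a ^ N := by
    obtain ⟨Q⟩ : Nonempty (Sylow p A) := inferInstance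
    have hbQ : (⟨a ^ N, pow_mem ha N⟩ : A) ∈ Q :=
      mem_sylow_of_normal Q _ e (Subtype.ext (by simpa using hb))
    have huQ : (⟨u, hu⟩ : A) ∈ Q :=
      mem_sylow_of_normal Q _ k (Subtype.ext (by simpa using huk))
    exact hpc ((Q : Subgroup A).map A.subtype) (Q.2.map _) _ ⟨_, hbQ, rfl⟩ _ ⟨_, huQ, rfl⟩
  rw [hsplit, mul_assoc, h1, ← mul_assoc, h2, mul_assoc]

theorem mem_of_centralizes [Finite G] {p : ℕ} [Fact p.Prime] (Q : Sylow p G) (b : G) (k : ℕ)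
    (hb : b ^ p ^ k = 1) (hc : b ∈ Subgroup.centralizer ((Q : Subgroup G) : Set G)) : b ∈ Q := by
  have h0 : Subgroup.zpowers b ≤ Subgroup.normalizer ((Q : Subgroup G) : Set G) := by
    rw [Subgroup.zpowers_le]
    exact Subgroup.centralizer_le_normalizer _ hc
  have h1 : IsPGroup p (Subgroup.zpowers b ⊔ (Q : Subgroup G) : Subgroup G) :=
    (zp b k hb).to_sup_of_normal_right' Q.2 h0
  have h2 := Q.is_maximal' h1 le_sup_right
  have h3 : b ∈ (Subgroup.zpowers b ⊔ (Q : Subgroup G) : Subgroup G) :=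
    (le_sup_left : Subgroup.zpowers b ≤ _) (Subgroup.mem_zpowers b)
  rw [h2] at h3
  exact h3

theorem centralizer_ne_top (hZ : Subgroup.center G = ⊥) (u : G) (hu : u ≠ 1) :
    Subgroup.centralizer ({u} : Set G) ≠ ⊤ := by
  intro h
  apply hu
  have : u ∈ Subgroup.center G := by
    rw [Subgroup.mem_center_iff]
    intro g
    have hg : g ∈ Subgroup.centralizer ({u} : Set G) := h ▸ Subgroup.mem_top g
    exact Subgroup.mem_centralizer_singleton_iff.mp hg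
  rw [hZ] at this
  exact Subgroup.mem_bot.mp this

theorem uniq_mem [Finite G] (hZ : Subgroup.center G = ⊥) {𝓐 : Finset (Subgroup G)} (h : IsNMC 𝓐)
    {p : ℕ} [hp : Fact p.Prime]
    (hpc : ∀ R : Subgroup G, IsPGroup p R → ∀ x ∈ R, ∀ y ∈ R, x * y = y * x)
    (u : G) (hu1 : u ≠ 1) (k : ℕ) (huk : u ^ p ^ k = 1) {A₁ A₂ : Subgroup G} (h1 : A₁ ∈ 𝓐)
    (h2 : A₂ ∈ 𝓐) (hu₁ : u ∈ A₁) (hu₂ : u ∈ A₂) : A₁ = A₂ := by
  apply uniq h _ (centralizer_ne_top hZ u hu1) h1 h2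
  · intro a ha
    exact Subgroup.mem_centralizer_singleton_iff.mpr
      (central_p hpc A₁ (h.2.2 _ h1) u hu₁ k huk a ha)
  · intro a ha
    exact Subgroup.mem_centralizer_singleton_iff.mpr
      (central_p hpc A₂ (h.2.2 _ h2) u hu₂ k huk a ha)


theorem sylow_le [Finite G] (hZ : Subgroup.center G = ⊥) {𝓐 : Finset (Subgroup G)} (h : IsNMC 𝓐)
    {p : ℕ} [hp : Fact p.Prime]
    (hpc : ∀ R : Subgroup G, IsPGroup p R → ∀ x ∈ R, ∀ y ∈ R, x * y = y * x) (Q : Sylow p G)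
    (hQ : (∃ x ∈ Q, ∀ y ∈ Q, y ∈ Subgroup.zpowers x) ∨ (∃ x ∈ Q, x ^ p ≠ 1)) :
    ∃ A ∈ 𝓐, (Q : Subgroup G) ≤ A := by
  rcases hQ with ⟨x, hx, hgen⟩ | ⟨x, hx, hxp⟩
  · obtain ⟨A, hA, hxA⟩ := h.1.2 x
    refine ⟨A, hA, fun y hy => ?_⟩
    exact (Subgroup.zpowers_le.mpr hxA) (hgen y hy)
  · obtain ⟨A, hA, hxA⟩ := h.1.2 x
    refine ⟨A, hA, ?_⟩
    obtain ⟨kx, hkx⟩ := (Q.2 ⟨x, hx⟩)
    have hkx' : x ^ p ^ kx = 1 := by simpa using congrArg Subtype.val hkx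
    have hu : (x ^ p) ^ p ^ kx = 1 := by rw [← pow_mul, mul_comm, pow_mul, hkx', one_pow]
    have key : ∀ k : ℕ, ∀ w ∈ Q, w ^ p ^ k = 1 → w ∈ A := by
      intro k
      induction k with
      | zero =>
        intro w _ hw
        simp only [pow_zero, pow_one] at hw
        rw [hw]; exact one_mem _
      | succ k ih =>
        intro w hw hwk
        have hv : (w ^ p) ^ p ^ k = 1 := by rw [← pow_mul, ← pow_succ']; exact hwk
        have hvA := ih (w ^ p) (pow_mem hw p) hv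
        by_cases hv1 : w ^ p = 1
        · obtain ⟨A', hA', hxw⟩ := h.1.2 (x * w)
          have hcomm : Commute x w := hpc Q Q.2 x hx w hw
          have h1 : (x * w) ^ p = x ^ p := by rw [hcomm.mul_pow, hv1, mul_one]
          have h2 : x ^ p ∈ A' := h1 ▸ pow_mem hxw p
          have h3 : A' = A := uniq_mem hZ h hpc (x ^ p) hxp kx hu hA' hA h2 (pow_mem hxA p)
          rw [h3] at hxw
          have := mul_mem (inv_mem hxA) hxw
          simpa using this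
        · obtain ⟨A', hA', hwA'⟩ := h.1.2 w
          have h3 : A' = A := uniq_mem hZ h hpc (w ^ p) hv1 k hv hA' hA (pow_mem hwA' p) hvA
          rw [← h3]; exact hwA'
    intro w hw
    obtain ⟨k, hk⟩ := (Q.2 ⟨w, hw⟩)
    exact key k w hw (by simpa using congrArg Subtype.val hk)

theorem key [Finite G] (hZ : Subgroup.center G = ⊥) {𝓐 : Finset (Subgroup G)} (h : IsNMC 𝓐)
    {p : ℕ} [hp : Fact p.Prime]
    (hpc : ∀ R : Subgroup G, IsPGroup p R → ∀ x ∈ R, ∀ y ∈ R, x * y = y * x) (Q : Sylow p G)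
    (hQ1 : ∃ u ∈ Q, u ≠ 1)
    (hQ : (∃ x ∈ Q, ∀ y ∈ Q, y ∈ Subgroup.zpowers x) ∨ (∃ x ∈ Q, x ^ p ≠ 1)) :
    ∃ A ∈ 𝓐, A = Subgroup.centralizer ((Q : Subgroup G) : Set G) := by
  obtain ⟨A, hA, hQA⟩ := sylow_le hZ h hpc Q hQ
  refine ⟨A, hA, le_antisymm ?_ ?_⟩
  · intro a ha
    rw [Subgroup.mem_centralizer_iff]
    intro u hu
    obtain ⟨k, hk⟩ := (Q.2 ⟨u, hu⟩)
    exact (central_p hpc A (h.2.2 _ hA) u (hQA hu) k (by simpa using congrArg Subtype.val hk)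
      a ha).symm
  · intro c hc
    obtain ⟨u, hu, hu1⟩ := hQ1
    obtain ⟨k, hk⟩ := (Q.2 ⟨u, hu⟩)
    have hk' : u ^ p ^ k = 1 := by simpa using congrArg Subtype.val hk
    obtain ⟨N, M, e, m, hm, hsplit, hb, hcm⟩ := split_elt (p := p) c
    have hbQ : c ^ N ∈ Q := mem_of_centralizes Q _ e hb (pow_mem hc N)
    have hcomm : Commute u (c ^ M) := by
      have := Subgroup.mem_centralizer_iff.mp (pow_mem hc M) u hu
      exact this
    obtain ⟨A', hA', huc⟩ := h.1.2 (u * c ^ M)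
    have h1 : (u * c ^ M) ^ m = u ^ m := by rw [hcomm.mul_pow, hcm, mul_one]
    have h2 : u ^ m ∈ A' := h1 ▸ pow_mem huc m
    have h4 : u ^ m ≠ 1 := by
      intro h5
      have d1 : orderOf u ∣ m := orderOf_dvd_of_pow_eq_one h5
      have d2 : orderOf u ∣ p ^ k := orderOf_dvd_of_pow_eq_one hk'
      have d3 : orderOf u ∣ 1 := by
        have := Nat.dvd_gcd d1 d2
        rwa [Nat.Coprime.pow_right k hm] at this
      exact hu1 (orderOf_eq_one_iff.mp (Nat.dvd_one.mp d3))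
    have h5 : (u ^ m) ^ p ^ k = 1 := by rw [← pow_mul, mul_comm, pow_mul, hk', one_pow]
    have h3 : A' = A := uniq_mem hZ h hpc (u ^ m) h4 k h5 hA' hA h2 (pow_mem (hQA hu) m)
    rw [h3] at huc
    have h6 : c ^ M ∈ A := by
      have := mul_mem (inv_mem (hQA hu)) huc
      simpa using this
    rw [hsplit]
    exact mul_mem (hQA hbQ) h6


theorem mem_smul_iff {p : ℕ} [Fact p.Prime] (P : Sylow p G) (g y : G) :
    y ∈ (g • P : Sylow p G) ↔ g⁻¹ * y * g ∈ P := by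
  have : y ∈ (g • P : Sylow p G) ↔ y ∈ ((g • P : Sylow p G) : Subgroup G) := Iff.rfl
  rw [this, Sylow.coe_subgroup_smul, Subgroup.mem_pointwise_smul_iff_inv_smul_mem]
  simp only [MulAut.smul_def, MulAut.conj_inv_apply]
  rfl

theorem hyp_conj {p : ℕ} [Fact p.Prime] (P : Sylow p G) (g : G)
    (hQ : (∃ x ∈ P, ∀ y ∈ P, y ∈ Subgroup.zpowers x) ∨ (∃ x ∈ P, x ^ p ≠ 1)) :
    (∃ x ∈ (g • P : Sylow p G), ∀ y ∈ (g • P : Sylow p G), y ∈ Subgroup.zpowers x) ∨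
      (∃ x ∈ (g • P : Sylow p G), x ^ p ≠ 1) := by
  rcases hQ with ⟨x, hx, hgen⟩ | ⟨x, hx, hxp⟩
  · left
    refine ⟨g * x * g⁻¹, (mem_smul_iff P g _).mpr (by simpa [mul_assoc] using hx), ?_⟩
    intro y hy
    obtain ⟨j, hj⟩ := Subgroup.mem_zpowers_iff.mp (hgen _ ((mem_smul_iff P g y).mp hy))
    refine Subgroup.mem_zpowers_iff.mpr ⟨j, ?_⟩
    rw [conj_zpow, hj]
    group
  · right
    refine ⟨g * x * g⁻¹, (mem_smul_iff P g _).mpr (by simpa [mul_assoc] using hx), ?_⟩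
    rw [conj_pow]
    intro h
    apply hxp
    have := congrArg (fun z => g⁻¹ * z * g) h
    simpa [mul_assoc] using this

theorem ne_one_conj {p : ℕ} [Fact p.Prime] (P : Sylow p G) (g : G) (h : ∃ u ∈ P, u ≠ 1) :
    ∃ u ∈ (g • P : Sylow p G), u ≠ 1 := by
  obtain ⟨u, hu, hu1⟩ := h
  refine ⟨g * u * g⁻¹, (mem_smul_iff P g _).mpr (by simpa [mul_assoc] using hu), ?_⟩
  intro h
  apply hu1
  have := congrArg (fun z => g⁻¹ * z * g) h
  simpa [mul_assoc] using this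

theorem conj_mem_normalizer [Finite G] (hZ : Subgroup.center G = ⊥) {𝓐 : Finset (Subgroup G)}
    (h : IsNMC 𝓐) {p : ℕ} [hp : Fact p.Prime]
    (hpc : ∀ R : Subgroup G, IsPGroup p R → ∀ x ∈ R, ∀ y ∈ R, x * y = y * x) (P : Sylow p G)
    (hP1 : ∃ u ∈ P, u ≠ 1)
    (hP : (∃ x ∈ P, ∀ y ∈ P, y ∈ Subgroup.zpowers x) ∨ (∃ x ∈ P, x ^ p ≠ 1))
    (B : Subgroup G) (hB : B ≠ ⊤) (g : G)
    (h1 : Subgroup.centralizer ((P : Subgroup G) : Set G) ≤ B)
    (h2 : Subgroup.centralizer (((g • P : Sylow p G) : Subgroup G) : Set G) ≤ B) :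
    g ∈ Subgroup.normalizer ((P : Subgroup G) : Set G) := by
  obtain ⟨A, hA, hAeq⟩ := key hZ h hpc P hP1 hP
  obtain ⟨A', hA', hAeq'⟩ := key hZ h hpc (g • P) (ne_one_conj P g hP1) (hyp_conj P g hP)
  have hAA : A' = A := uniq h B hB hA' hA (hAeq' ▸ h2) (hAeq ▸ h1)
  have hle : ((g • P : Sylow p G) : Subgroup G) ≤ P := by
    intro b hb
    obtain ⟨k, hk⟩ := (g • P : Sylow p G).2 ⟨b, hb⟩
    apply mem_of_centralizes P b k (by simpa using congrArg Subtype.val hk)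
    rw [← hAeq, ← hAA, hAeq', Subgroup.mem_centralizer_iff]
    intro x hx
    exact hpc _ (g • P : Sylow p G).2 x hx b hb
  have heq := (g • P : Sylow p G).is_maximal' P.2 hle
  exact Sylow.smul_eq_iff_mem_normalizer.mp (Sylow.ext heq.symm)

theorem centralizer_conj_le {p : ℕ} [Fact p.Prime] (P : Sylow p G) (M : Subgroup G) (m : G)
    (hm : m ∈ M) (h1 : Subgroup.centralizer ((P : Subgroup G) : Set G) ≤ M) :
    Subgroup.centralizer (((m • P : Sylow p G) : Subgroup G) : Set G) ≤ M := by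
  intro c hc
  have h2 : m⁻¹ * c * m ∈ Subgroup.centralizer ((P : Subgroup G) : Set G) := by
    rw [Subgroup.mem_centralizer_iff]
    intro x hx
    have h3 : m * x * m⁻¹ ∈ (m • P : Sylow p G) :=
      (mem_smul_iff P m _).mpr (by simpa [mul_assoc] using hx)
    have h4 := Subgroup.mem_centralizer_iff.mp hc _ h3
    have h5 := congrArg (fun z => m⁻¹ * z * m) h4
    simpa [mul_assoc] using h5
  have h3 := mul_mem (mul_mem hm (h1 h2)) (inv_mem hm)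
  simpa [mul_assoc] using h3

theorem le_normalizer [Finite G] (hZ : Subgroup.center G = ⊥) {𝓐 : Finset (Subgroup G)}
    (h : IsNMC 𝓐) {p : ℕ} [hp : Fact p.Prime]
    (hpc : ∀ R : Subgroup G, IsPGroup p R → ∀ x ∈ R, ∀ y ∈ R, x * y = y * x) (P : Sylow p G)
    (hP1 : ∃ u ∈ P, u ≠ 1)
    (hP : (∃ x ∈ P, ∀ y ∈ P, y ∈ Subgroup.zpowers x) ∨ (∃ x ∈ P, x ^ p ≠ 1))
    (M : Subgroup G) (hM : M ≠ ⊤)
    (h1 : Subgroup.centralizer ((P : Subgroup G) : Set G) ≤ M) :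
    M ≤ Subgroup.normalizer ((P : Subgroup G) : Set G) := fun m hm =>
  conj_mem_normalizer hZ h hpc P hP1 hP M hM m h1 (centralizer_conj_le P M m hm h1)

theorem coatom_eq [Finite G] (hZ : Subgroup.center G = ⊥) {𝓐 : Finset (Subgroup G)}
    (h : IsNMC 𝓐) {p : ℕ} [hp : Fact p.Prime]
    (hpc : ∀ R : Subgroup G, IsPGroup p R → ∀ x ∈ R, ∀ y ∈ R, x * y = y * x) (P : Sylow p G)
    (hP1 : ∃ u ∈ P, u ≠ 1)
    (hP : (∃ x ∈ P, ∀ y ∈ P, y ∈ Subgroup.zpowers x) ∨ (∃ x ∈ P, x ^ p ≠ 1))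
    (hnn : ¬ (P : Subgroup G).Normal) (M : Subgroup G) (hM : IsCoatom M)
    (h1 : Subgroup.centralizer ((P : Subgroup G) : Set G) ≤ M) :
    M = Subgroup.normalizer ((P : Subgroup G) : Set G) := by
  have h2 := le_normalizer hZ h hpc P hP1 hP M hM.1 h1
  by_contra hne
  exact hnn (Subgroup.normalizer_eq_top_iff.mp (hM.2 _ (lt_of_le_of_ne h2 hne)))

theorem coatom_normalizer [Finite G] (hZ : Subgroup.center G = ⊥) {𝓐 : Finset (Subgroup G)}
    (h : IsNMC 𝓐) {p : ℕ} [hp : Fact p.Prime]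
    (hpc : ∀ R : Subgroup G, IsPGroup p R → ∀ x ∈ R, ∀ y ∈ R, x * y = y * x) (P : Sylow p G)
    (hP1 : ∃ u ∈ P, u ≠ 1)
    (hP : (∃ x ∈ P, ∀ y ∈ P, y ∈ Subgroup.zpowers x) ∨ (∃ x ∈ P, x ^ p ≠ 1))
    (hnn : ¬ (P : Subgroup G).Normal) :
    IsCoatom (Subgroup.normalizer ((P : Subgroup G) : Set G)) := by
  have hN : Subgroup.normalizer ((P : Subgroup G) : Set G) ≠ ⊤ :=
    fun h => hnn (Subgroup.normalizer_eq_top_iff.mp h)
  obtain ⟨M, hM, hNM⟩ := (eq_top_or_exists_le_coatom _).resolve_left hN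
  have := coatom_eq hZ h hpc P hP1 hP hnn M hM
    ((Subgroup.centralizer_le_normalizer _).trans hNM)
  rw [← this]; exact hM

theorem exists_ne_one {p : ℕ} [Fact p.Prime] (P : Sylow p G) (hnn : ¬ (P : Subgroup G).Normal) :
    ∃ u ∈ P, u ≠ 1 := by
  by_contra hcon
  push Not at hcon
  apply hnn
  have : (P : Subgroup G) = ⊥ := by
    rw [eq_bot_iff]
    intro u hu
    exact Subgroup.mem_bot.mpr (hcon u hu)
  rw [this]
  infer_instance

theorem cyclic_gen {p : ℕ} [Fact p.Prime] (P : Sylow p G) (hc : IsCyclic ↥(P : Subgroup G)) :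
    ∃ x ∈ P, ∀ y ∈ P, y ∈ Subgroup.zpowers x := by
  obtain ⟨x, hx⟩ := hc.exists_generator
  refine ⟨x.1, x.2, fun y hy => ?_⟩
  obtain ⟨j, hj⟩ := Subgroup.mem_zpowers_iff.mp (hx ⟨y, hy⟩)
  refine Subgroup.mem_zpowers_iff.mpr ⟨j, ?_⟩
  have := congrArg Subtype.val hj
  simpa using this

theorem comm_of_gen {p : ℕ} [Fact p.Prime] (P : Sylow p G)
    (h : ∃ x ∈ P, ∀ y ∈ P, y ∈ Subgroup.zpowers x) : ∀ x ∈ P, ∀ y ∈ P, x * y = y * x := by
  obtain ⟨g, _, hg⟩ := h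
  intro x hx y hy
  obtain ⟨i, rfl⟩ := Subgroup.mem_zpowers_iff.mp (hg x hx)
  obtain ⟨j, rfl⟩ := Subgroup.mem_zpowers_iff.mp (hg y hy)
  exact (Commute.zpow_zpow_self g i j).eq

end Cfsg.Agent.Lib.Helper9.NilCover
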